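import Groth.Agent.FibDim.GenerizeDim
import Groth.Agent.DimFormula.Equidim
import Groth.Agent.DimFormula.ClosedSub
import Groth.Agent.H23.EquidimFibres

/-! The condition: some component through the point is equidimensional there, in terms of points. -/

set_option autoImplicit false
set_option linter.style.haveILetI false
universe u

open CategoryTheory AlgebraicGeometry Topology

namespace Groth.Agent.FamT

variable {X S : Scheme.{u}} (f : X ⟶ S) [LocallyOfFiniteType f]

/-- Some component through `x` is equidimensional at `x`, in terms of generic points. -/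
def CondT (x : X) : Prop :=
  ∃ η, η ⤳ x ∧ (∀ t, t ⤳ η → t = η) ∧ (∀ b, b ⤳ f η → b = f η) ∧
    ∀ z, η ⤳ z → z ⤳ x → f z = f x → FibDim.rd f z ≤ FibDim.rd f η

omit [LocallyOfFiniteType f] in
theorem exists_component_point {η : X} (hmax : ∀ t, t ⤳ η → t = η) (W : TopologicalSpace.Closeds X)
    (hW : (W : Set X) = closure {η}) :
    ∃ η₀, (Scheme.IdealSheafData.vanishingIdeal W).subschemeι η₀ = η ∧ (∀ w, η₀ ⤳ w) ∧
      ∀ w, (∀ t, t ⤳ w → t = w) → w = η₀ := by
  let j := (Scheme.IdealSheafData.vanishingIdeal W).subschemeι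
  have hr : Set.range j = closure {η} := (DimFormula.range_vanishingIdeal W).trans hW
  obtain ⟨η₀, hη₀⟩ : η ∈ Set.range j := hr.symm ▸ subset_closure rfl
  have h1 : ∀ w, η₀ ⤳ w := fun w => j.isClosedEmbedding.isInducing.specializes_iff.1
    (specializes_iff_mem_closure.2 (by rw [hη₀, ← hr]; exact ⟨w, rfl⟩))
  exact ⟨η₀, hη₀, h1, fun w hw => (hw η₀ (h1 w)).symm⟩

theorem isEquidimAt_component_iff {η : X} (hmax : ∀ t, t ⤳ η → t = η) (W : TopologicalSpace.Closeds X)
    (hW : (W : Set X) = closure {η}) (w : ↥(Scheme.IdealSheafData.vanishingIdeal W).subscheme) :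
    EGA43.IsEquidimAt ((Scheme.IdealSheafData.vanishingIdeal W).subschemeι ≫ f) w ↔
      (∀ b, b ⤳ f η → b = f η) ∧ ∀ z, η ⤳ z → z ⤳ (Scheme.IdealSheafData.vanishingIdeal W).subschemeι w →
        f z = f ((Scheme.IdealSheafData.vanishingIdeal W).subschemeι w) → FibDim.rd f z ≤ FibDim.rd f η := by
  let j := (Scheme.IdealSheafData.vanishingIdeal W).subschemeι
  have hr : Set.range j = closure {η} := (DimFormula.range_vanishingIdeal W).trans hW
  obtain ⟨η₀, hη₀, hgen, huniq⟩ := exists_component_point hmax W hW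
  have hmax₀ : ∀ t, t ⤳ η₀ → t = η₀ := fun t ht => j.isClosedEmbedding.injective
    ((hmax _ (hη₀ ▸ ht.map j.continuous)).trans hη₀.symm)
  constructor
  · intro h
    obtain ⟨e, U, hwU, h1, h2⟩ := (FibDim.isEquidimAt_iff (j ≫ f) w).1 h
    have hU0 : η₀ ∈ U := (hgen w).mem_open U.isOpen hwU
    refine ⟨?_, fun z hz hzw hfz => ?_⟩
    · have := (h1 η₀ hU0 hmax₀).1
      rwa [Scheme.Hom.comp_apply, hη₀] at this
    · obtain ⟨z₀, rfl⟩ : z ∈ Set.range j := hr.symm ▸ specializes_iff_mem_closure.1 hz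
      have hz₀ : z₀ ⤳ w := j.isClosedEmbedding.isInducing.specializes_iff.1 hzw
      have he := h2 η₀ hU0 (FibDim.fibMax_of_maximal _ hmax₀)
      rw [DimFormula.rd_closedSub, hη₀] at he
      rw [he]
      have hle := FibDim.rd_le_fibreDimAt (j ≫ f) hz₀ hfz
      obtain ⟨v, hv, hfv, hvm, hev⟩ := FibDim.exists_fibMax_generization (j ≫ f) w
      rw [hev, h2 v (hv.mem_open U.isOpen hwU) hvm, DimFormula.rd_closedSub] at hle
      exact_mod_cast hle
  · rintro ⟨h1, h2⟩
    refine (FibDim.isEquidimAt_iff (j ≫ f) w).2 ⟨FibDim.rd f η,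
      ⟨_, FibDim.isOpen_fibreDimAt_le (j ≫ f) (FibDim.rd f η)⟩, ?_, fun a _ ha => ?_, fun v hv hvm => ?_⟩
    · refine (FibDim.fibreDimAt_le_iff (j ≫ f) w _).2 fun v hv hfv => ?_
      rw [DimFormula.rd_closedSub]
      exact h2 _ (hη₀ ▸ (hgen v).map j.continuous) (hv.map j.continuous) hfv
    · obtain rfl := huniq a ha
      refine ⟨?_, (hgen w).map (j ≫ f).continuous⟩
      rw [Scheme.Hom.comp_apply, hη₀]
      exact h1
    · refine le_antisymm ?_ ?_
      · have := le_of_eq_of_le (FibDim.fibreDimAt_eq_rd (j ≫ f) hvm).symm (hv :)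
        exact_mod_cast this
      · have h3 := FibDim.fibreDimAt_ge_rd (j ≫ f) (hgen v)
        rw [FibDim.fibreDimAt_eq_rd (j ≫ f) hvm, DimFormula.rd_closedSub, hη₀] at h3
        exact_mod_cast h3

theorem condT_iff (x : X) :
    (∃ W : TopologicalSpace.Closeds X, (W : Set X) ∈ irreducibleComponents (X : Type u) ∧
      ∃ w : ↥((Scheme.IdealSheafData.vanishingIdeal W).subscheme),
        (Scheme.IdealSheafData.vanishingIdeal W).subschemeι.base w = x ∧
        EGA43.IsEquidimAt ((Scheme.IdealSheafData.vanishingIdeal W).subschemeι ≫ f) w) ↔ CondT f x := by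
  constructor
  · rintro ⟨W, hW, w, rfl, hw⟩
    obtain ⟨η, hη, hmax⟩ := FDescent.exists_maximal_of_mem_irreducibleComponents hW
    obtain ⟨h1, h2⟩ := (isEquidimAt_component_iff f hmax W hη w).1 hw
    refine ⟨η, specializes_iff_mem_closure.2 ?_, hmax, h1, h2⟩
    rw [← hη, ← DimFormula.range_vanishingIdeal W]
    exact ⟨w, rfl⟩
  · rintro ⟨η, hx, hmax, h1, h2⟩
    let W : TopologicalSpace.Closeds X := ⟨closure {η}, isClosed_closure⟩
    obtain ⟨w, hw⟩ : x ∈ Set.range (Scheme.IdealSheafData.vanishingIdeal W).subschemeι := by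
      rw [DimFormula.range_vanishingIdeal W]; exact specializes_iff_mem_closure.1 hx
    subst hw
    exact ⟨W, FDescent.closure_mem_irreducibleComponents hmax, w, rfl,
      (isEquidimAt_component_iff f hmax W rfl w).2 ⟨h1, h2⟩⟩

/-- It is enough to know the condition at the maximal points of the fibres. -/
theorem condT_of_fibMax (h : ∀ x, FibDim.FibMax f x → CondT f x) (x : X) : CondT f x := by
  obtain ⟨z, hz, hfz, hzm, he⟩ := FibDim.exists_fibMax_generization f x
  obtain ⟨η, hη, hmax, h1, h2⟩ := h z hzm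
  refine ⟨η, hη.trans hz, hmax, h1, fun v _ hv hfv => le_trans ?_ (h2 z hη specializes_rfl rfl)⟩
  have := FibDim.rd_le_fibreDimAt f hv hfv
  rw [he] at this
  exact_mod_cast this

theorem condT_of_equidim {x : X} (h : EGA43.IsEquidimAt f x) : CondT f x := by
  obtain ⟨η, hη, hmax⟩ := FibDim.exists_maximal_generization x
  obtain ⟨e, U, hxU, h1, h2⟩ := (FibDim.isEquidimAt_iff f x).1 h
  refine ⟨η, hη, hmax, (h1 η (hη.mem_open U.isOpen hxU) hmax).1, fun z _ hz hfz => ?_⟩
  obtain ⟨v, hv, hfv, hvm, he⟩ := FibDim.exists_fibMax_generization f x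
  have := FibDim.rd_le_fibreDimAt f hz hfz
  rw [he, h2 v (hv.mem_open U.isOpen hxU) hvm] at this
  rw [h2 η (hη.mem_open U.isOpen hxU) (FibDim.fibMax_of_maximal f hmax)]
  exact_mod_cast this

theorem condT_of_univOpenAt {x : X} (hx : FibDim.FibMax f x) (h : EGA43.IsUnivOpenAt f x) : CondT f x := by
  obtain ⟨y', hy', hy'max⟩ := FibDim.exists_maximal_generization (f x)
  obtain ⟨ζ, hζ, hfζ, hrd, hζm⟩ := FibDim.exists_generization_of_dim_ge f hx hy' fun U hxU => by
    obtain ⟨z, hzU, hfz, hle⟩ := FibDim.exists_rd_ge_of_univOpenAt f h U hxU hy'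
    rw [FibDim.fibreDimAt_eq_rd f hx]
    have he := FibDim.dim_inter_eq_iSup f y' U.isOpen (isClosed_univ (X := X))
    rw [Set.inter_univ] at he
    rw [he]
    exact le_iSup_of_le ⟨z, ⟨hzU, hfz⟩⟩ (by exact_mod_cast hle)
  refine ⟨ζ, hζ, fun t ht => hζm t ht ?_, hfζ.symm ▸ hy'max, fun z _ hz hfz => ?_⟩
  · rw [hfζ]; exact hy'max _ (hfζ ▸ ht.map f.continuous)
  · rw [hrd, hx z hz hfz]

end Groth.Agent.FamT
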