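import Groth.Agent.FamT.OpenAlg
import Groth.Agent.FamT.Cond
import Groth.Agent.UnivOpen.Chevalley

/-! Chevalley's criterion over bases with finitely many components. -/

set_option autoImplicit false
set_option backward.isDefEq.respectTransparency false
set_option backward.isDefEq.respectTransparency.types false
set_option linter.style.haveILetI false
universe u

open CategoryTheory CategoryTheory.Limits AlgebraicGeometry Topology

namespace Groth.Agent.FamT

variable {X Y : Scheme.{u}}

/-- A quasi-finite map from an integral scheme, dominating a unibranch irreducible neighbourhood, is open. -/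
theorem isOpenAt_of_quasiFinite [IsIntegral X] (f : X ⟶ Y) [LocallyOfFiniteType f] (x : X)
    (hqf : f.QuasiFiniteAt x) (V : Y.Opens) (hxV : f x ∈ V)
    (hgen : ∀ y ∈ V, f (genericPoint X) ⤳ y)
    (hub : ∀ y ∈ V, CAlg2.IsGeomUnibranch (Y.presheaf.stalk y)) : EGA43.IsOpenAt f.base x := by
  intro N hN
  obtain ⟨W, hW, hxW, hWV⟩ := exists_isAffineOpen_mem_and_subset (x := f x) (U := V) hxV
  obtain ⟨N', hN'N, hN'o, hxN'⟩ := mem_nhds_iff.1 hN
  obtain ⟨U, hU, hxU, hUsub⟩ := exists_isAffineOpen_mem_and_subset (x := x) (U := f ⁻¹ᵁ W ⊓ ⟨N', hN'o⟩) ⟨hxW, hxN'⟩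
  have hUW : U ≤ f ⁻¹ᵁ W := fun z hz => (hUsub hz).1
  let φ := f.appLE W U hUW
  letI : Algebra Γ(Y, W) Γ(X, U) := φ.hom.toAlgebra
  haveI : Algebra.FiniteType Γ(Y, W) Γ(X, U) := f.finiteType_appLE hW hU hUW
  haveI : Nonempty (U : Scheme.{u}) := ⟨⟨x, hxU⟩⟩
  haveI : IsDomain Γ(X, U) := inferInstance
  let q : PrimeSpectrum Γ(X, U) := hU.primeIdealOf ⟨x, hxU⟩
  haveI : Algebra.QuasiFiniteAt Γ(Y, W) q.asIdeal := hqf.quasiFiniteAt hU hW hUW hxU
  have hker : RingHom.ker (algebraMap Γ(Y, W) Γ(X, U)) = nilradical Γ(Y, W) := by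
    refine le_antisymm (fun a ha => ?_) fun a ha => ?_
    · replace ha : φ.hom a = 0 := ha
      rw [mem_nilradical, ← PrimeSpectrum.basicOpen_eq_bot_iff, eq_bot_iff]
      intro p hp
      have hmem : hW.fromSpec p ∈ Y.basicOpen a := by
        have h1 : p ∈ hW.fromSpec ⁻¹ᵁ Y.basicOpen a := by rw [hW.fromSpec_preimage_basicOpen]; exact hp
        exact h1
      have hpW : hW.fromSpec p ∈ W := Y.basicOpen_le a hmem
      have hg : genericPoint X ∈ X.basicOpen (φ.hom a) := by
        rw [Scheme.basicOpen_appLE]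
        exact ⟨(genericPoint_spec X).specializes (Set.mem_univ x) |>.mem_open U.isOpen hxU,
          (hgen _ (hWV hpW)).mem_open (Y.basicOpen a).isOpen hmem⟩
      rw [ha, Scheme.basicOpen_zero] at hg
      exact hg.elim
    · exact RingHom.mem_ker.2 (IsNilpotent.map ha (algebraMap Γ(Y, W) Γ(X, U))).eq_zero
  have hubA : ∀ P : PrimeSpectrum Γ(Y, W), CAlg2.IsUnibranch (Localization.AtPrime P.asIdeal) := by
    intro P
    have hPW : hW.fromSpec P ∈ W := by
      have : hW.fromSpec P ∈ Set.range hW.fromSpec := ⟨P, rfl⟩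
      rwa [hW.range_fromSpec] at this
    letI : Algebra Γ(Y, W) (Y.presheaf.stalk (hW.fromSpec P)) := (Y.presheaf.germ W _ hPW).hom.toAlgebra
    haveI : IsLocalization.AtPrime (Y.presheaf.stalk (hW.fromSpec P)) P.asIdeal := hW.isLocalization_stalk' P hPW
    exact (UnivOpen.isGeomUnibranch_of_ringEquiv (IsLocalization.algEquiv P.asIdeal.primeCompl
      (Y.presheaf.stalk (hW.fromSpec P)) (Localization.AtPrime P.asIdeal)).toRingEquiv (hub _ (hWV hPW))).1
  have hpt : ∀ p : PrimeSpectrum Γ(X, U),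
      hW.fromSpec (PrimeSpectrum.comap (algebraMap Γ(Y, W) Γ(X, U)) p) = f (hU.fromSpec p) := fun p => by
    show (Spec.map φ ≫ hW.fromSpec) p = _
    rw [IsAffineOpen.SpecMap_appLE_fromSpec f hW hU hUW]
    rfl
  have h := exists_open_image_of_quasiFiniteAt q hker hubA
    (N := hU.fromSpec ⁻¹' N') (hN'o.preimage hU.fromSpec.continuous)
    (show hU.fromSpec q ∈ N' by rw [hU.fromSpec_primeIdealOf]; exact hxN')
  have h2 := hW.fromSpec.isOpenEmbedding.isOpenMap.image_mem_nhds h
  rw [show hW.fromSpec (PrimeSpectrum.comap (algebraMap Γ(Y, W) Γ(X, U)) q) = f x by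
    rw [hpt]; exact congrArg f (hU.fromSpec_primeIdealOf ⟨x, hxU⟩)] at h2
  refine Filter.mem_of_superset h2 ?_
  rintro _ ⟨_, ⟨p, hp, rfl⟩, rfl⟩
  exact ⟨_, hN'N hp, (hpt p).symm⟩

/-- The universal version. -/
theorem isUnivOpenAt_of_quasiFinite [IsIntegral X] (g : X ⟶ Y) [LocallyOfFiniteType g] [LocallyQuasiFinite g]
    (x : X) (V : Y.Opens) (hxV : g x ∈ V) (hgen : ∀ y ∈ V, g (genericPoint X) ⤳ y)
    (hub : ∀ y ∈ V, CAlg2.IsGeomUnibranch (Y.presheaf.stalk y)) : EGA43.IsUnivOpenAt g x := by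
  refine UnivOpen.isUnivOpenAt_of_affineSpace g x fun m x'' hx'' => ?_
  let n : Type u := ULift.{u} (Fin m)
  let π : 𝔸(n; Y) ⟶ Y := 𝔸(n; Y) ↘ Y
  let e := (AffineSpace.isPullback_map (n := n) g).flip.isoPullback
  haveI : IrreducibleSpace ↥𝔸(n; X) := inferInstance
  haveI : IsReduced 𝔸(n; X) := inferInstance
  haveI : IsIntegral 𝔸(n; X) := isIntegral_of_irreducibleSpace_of_isReduced _
  haveI : Nonempty ↥(pullback g π) := ⟨x''⟩
  haveI : IsIntegral (pullback g π) := isIntegral_of_isOpenImmersion e.inv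
  let g' := pullback.snd g π
  haveI : LocallyQuasiFinite g' := MorphismProperty.pullback_snd _ _ inferInstance
  haveI : LocallyOfFiniteType g' := MorphismProperty.pullback_snd _ _ inferInstance
  refine isOpenAt_of_quasiFinite g' x'' (g'.quasiFiniteAt x'') (π ⁻¹ᵁ V) ?_ (fun y hy => ?_)
    fun y hy => UnivOpen.isGeomUnibranch_affineSpace n y (hub _ hy)
  · show (g' ≫ π) x'' ∈ V
    rw [← pullback.condition, Scheme.Hom.comp_apply, hx'']
    exact hxV
  · have h1 : y ∈ closure (π ⁻¹' Set.range g) := by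
      rw [← (AffineSpace.isOpenMap_over (n := n) Y).preimage_closure_eq_closure_preimage π.continuous]
      exact closure_mono (Set.singleton_subset_iff.2 (Set.mem_range_self (f := g) (genericPoint X)))
        (specializes_iff_mem_closure.1 (hgen _ hy))
    rw [← Scheme.Pullback.range_snd] at h1
    refine specializes_iff_mem_closure.2 (closure_minimal ?_ isClosed_closure h1)
    rintro _ ⟨z, rfl⟩
    exact specializes_iff_mem_closure.1 (((genericPoint_spec _).specializes (Set.mem_univ z)).map g'.continuous)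

/-- An open neighbourhood of a unibranch point on which one maximal point dominates. -/
theorem exists_nhd_dominated (hfin : (irreducibleComponents (Y : Type u)).Finite) {y η : Y}
    (hy : CAlg2.IsUnibranch (Y.presheaf.stalk y)) (hη : η ⤳ y) (hmax : ∀ b, b ⤳ η → b = η) :
    ∃ V : Y.Opens, y ∈ V ∧ ∀ w ∈ V, η ⤳ w := by
  let C : Set Y := ⋃ Z ∈ {Z | Z ∈ irreducibleComponents (Y : Type u) ∧ y ∉ Z}, Z
  have hC : IsClosed C := (hfin.subset fun Z hZ => hZ.1).isClosed_biUnion
    fun Z hZ => isClosed_of_mem_irreducibleComponents Z hZ.1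
  refine ⟨⟨Cᶜ, hC.isOpen_compl⟩, fun h => ?_, fun w hw => ?_⟩
  · obtain ⟨Z, hZ, hyZ⟩ := Set.mem_iUnion₂.1 h
    exact hZ.2 hyZ
  · obtain ⟨a, ha, ham⟩ := FibDim.exists_maximal_generization w
    have hay : a ⤳ y := specializes_iff_mem_closure.2 (by
      by_contra hn
      exact hw (Set.mem_biUnion (x := closure {a}) ⟨FDescent.closure_mem_irreducibleComponents ham, hn⟩
        (specializes_iff_mem_closure.1 ha)))
    rwa [UnivOpen.maximal_unique hy hay ham hη hmax] at ha

theorem isUnivOpenAt_of_condT (hY : ∀ y : Y, CAlg2.IsGeomUnibranch (Y.presheaf.stalk y))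
    (hfin : (irreducibleComponents (Y : Type u)).Finite) (f : X ⟶ Y) [LocallyOfFiniteType f] {z : X}
    (hz : FibDim.FibMax f z) (hT : CondT f z) : EGA43.IsUnivOpenAt f z := by
  obtain ⟨η, hη, hmax, hfη, hr⟩ := hT
  let S : TopologicalSpace.Closeds X := ⟨closure {η}, isClosed_closure⟩
  let j := (Scheme.IdealSheafData.vanishingIdeal S).subschemeι
  have hrange : Set.range j = closure {η} := DimFormula.range_vanishingIdeal S
  haveI : IsReduced (Scheme.IdealSheafData.vanishingIdeal S).subscheme := H23.RedSub.isReduced_vanishingIdeal S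
  haveI : IrreducibleSpace ↥(Scheme.IdealSheafData.vanishingIdeal S).subscheme := by
    haveI : IrreducibleSpace ↥(Set.range j) := by
      rw [hrange]; exact Subtype.irreducibleSpace isIrreducible_singleton.closure
    exact j.isClosedEmbedding.isEmbedding.toHomeomorph.symm.surjective.irreducibleSpace
      j.isClosedEmbedding.isEmbedding.toHomeomorph.symm.continuous
  haveI : IsIntegral (Scheme.IdealSheafData.vanishingIdeal S).subscheme :=
    isIntegral_of_irreducibleSpace_of_isReduced _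
  obtain ⟨η₀, hη₀, hgen, huniq⟩ := exists_component_point hmax S rfl
  obtain ⟨z', rfl⟩ : z ∈ Set.range j := by rw [hrange]; exact specializes_iff_mem_closure.1 hη
  refine QHomeo.univOpenAt_of_comp ?_
  obtain ⟨e, U, g, hzU, hg, hqf, hcomp⟩ :=
    (Groth.Agent.S3386.result (j ≫ f) z').1 ((isEquidimAt_component_iff f hmax S rfl z').2 ⟨hfη, hr⟩)
  haveI := hqf
  let π : 𝔸(ULift.{u} (Fin e); Y) ⟶ Y := (𝔸(ULift.{u} (Fin e); Y) ↘ Y)
  haveI : LocallyOfFiniteType g := by
    haveI : LocallyOfFiniteType (g ≫ π) := by rw [hg]; infer_instance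
    exact locallyOfFiniteType_of_comp g π
  haveI : Nonempty (U : Scheme.{u}) := ⟨⟨z', hzU⟩⟩
  haveI : IsIntegral (U : Scheme.{u}) := isIntegral_of_isOpenImmersion U.ι
  let x' : (U : Scheme.{u}) := ⟨z', hzU⟩
  let ζ : (U : Scheme.{u}) := genericPoint ↥(U : Scheme.{u})
  have hUζ : U.ι ζ = η₀ := by
    let a : (U : Scheme.{u}) := ⟨η₀, (hgen z').mem_open U.isOpen hzU⟩
    have h1 : ζ = a := (((genericPoint_spec _).specializes (Set.mem_univ a)).antisymm
      (U.ι.isOpenEmbedding.isInducing.specializes_iff.1 (hgen _))).eq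
    rw [h1]; rfl
  have hπgen : π (g ζ) = f η := by
    rw [← Scheme.Hom.comp_apply, hg, Scheme.Hom.comp_apply, hUζ, Scheme.Hom.comp_apply, hη₀]
  have hmaxg : ∀ b, b ⤳ g ζ → b = g ζ := by
    have h1 : closure (g '' closure {ζ}) ∈ irreducibleComponents ↥𝔸(ULift.{u} (Fin e); Y) := by
      rw [(genericPoint_spec ↥(U : Scheme.{u})).def]
      exact hcomp _ ((irreducibleComponents_eq_singleton (X := ↥(U : Scheme.{u}))).symm ▸ Set.mem_singleton _)
    rw [closure_image_closure g.continuous] at h1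
    erw [Set.image_singleton] at h1
    exact fun b hb => FDescent.maximal_of_closure_mem_irreducibleComponents h1 hb
  obtain ⟨V, hzV, hV⟩ := exists_nhd_dominated hfin (hY (f (j z'))).1 (hη.map f.continuous) hfη
  have hπx : π (g x') = f (j z') := by
    show (g ≫ π) x' = _
    rw [hg]; rfl
  have h1 : EGA43.IsUnivOpenAt g x' := by
    refine isUnivOpenAt_of_quasiFinite g x' (π ⁻¹ᵁ V) (show π (g x') ∈ V from hπx.symm ▸ hzV) (fun y hy => ?_)
      fun y _ => UnivOpen.isGeomUnibranch_affineSpace _ y (hY _)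
    obtain ⟨a, ha, ham⟩ := FibDim.exists_maximal_generization y
    have hπa : ∀ b, b ⤳ π a → b = π a := fun b hb => by
      obtain ⟨a', ha', hba'⟩ := FibDim.exists_generization_of_isOpenAt π
        (show EGA43.IsOpenAt π.base a from fun N hN =>
          (AffineSpace.isOpenMap_over (n := ULift.{u} (Fin e)) Y).image_mem_nhds hN) hb
      rw [← hba', ham a' ha']
    have hb : π a = f η :=
      UnivOpen.maximal_unique (hY (π y)).1 (ha.map π.continuous) hπa (hV _ hy) hfη
    have hF : IsIrreducible (π ⁻¹' {f η}) :=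
      π.isIrreducible_preimage (AffineSpace.isOpenMap_over _) isIrreducible_singleton
    obtain ⟨c, hc⟩ := QuasiSober.sober hF.closure isClosed_closure
    have hca : c = a := ham c (hc.specializes (subset_closure hb))
    have hcg : c = g ζ := hmaxg c (hc.specializes (subset_closure hπgen))
    rw [← hcg, hca]
    exact ha
  haveI := UnivOpen.universallyOpen_affineSpace (Y := Y) (ULift.{u} (Fin e))
  have h2 := QHomeo.univOpenAt_comp h1 ((UnivOpen.universallyOpen_iff_forall π).1 inferInstance (g x'))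
  rw [hg] at h2
  exact QHomeo.univOpenAt_of_comp h2

theorem universallyOpen_of_condT (hY : ∀ y : Y, CAlg2.IsGeomUnibranch (Y.presheaf.stalk y))
    (hfin : (irreducibleComponents (Y : Type u)).Finite) (f : X ⟶ Y) [LocallyOfFiniteType f]
    (hT : ∀ x, CondT f x) : UniversallyOpen f := by
  refine (UnivOpen.universallyOpen_iff_forall f).2 fun x => ?_
  obtain ⟨z, hz, hfz, hzm, -⟩ := FibDim.exists_fibMax_generization f x
  exact UnivOpen.isUnivOpenAt_of_specializes (isUnivOpenAt_of_condT hY hfin f hzm (hT z)) hz hfz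

end Groth.Agent.FamT
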