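import Groth.Prelude.Def_CAlg2
import Mathlib.FieldTheory.Minpoly.IsIntegrallyClosed
import Mathlib.RingTheory.Localization.Integral
import Mathlib.RingTheory.Spectrum.Prime.Chevalley
import Mathlib.RingTheory.Ideal.GoingDown
import Mathlib.RingTheory.ZariskisMainTheorem

/-! Openness of quasi-finite morphisms to unibranch bases, without finiteness on the base. -/

set_option autoImplicit false
set_option linter.style.haveILetI false
universe u

open PrimeSpectrum

namespace Groth.Agent.FamT

theorem isOpenMap_comap_of_isIntegrallyClosed {D E : Type u} [CommRing D] [IsDomain D] [IsIntegrallyClosed D]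
    [CommRing E] [IsDomain E] [Algebra D E] (hinj : Function.Injective (algebraMap D E))
    [Algebra.IsIntegral D E] : IsOpenMap (PrimeSpectrum.comap (algebraMap D E)) := by
  haveI : FaithfulSMul D E := (faithfulSMul_iff_algebraMap_injective _ _).2 hinj
  rw [PrimeSpectrum.isTopologicalBasis_basic_opens.isOpenMap_iff]
  rintro _ ⟨e, rfl⟩
  have he : IsIntegral D e := Algebra.IsIntegral.isIntegral e
  let P := minpoly D e
  haveI : Module.Free D (AdjoinRoot P) := (minpoly.monic he).free_adjoinRoot
  haveI : Algebra.FinitePresentation D (AdjoinRoot P) := inferInstance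
  let φ : AdjoinRoot P →ₐ[D] E := AdjoinRoot.liftAlgHom P (Algebra.ofId D E) e (minpoly.aeval D e)
  have hφ : Function.Injective φ := by
    refine (injective_iff_map_eq_zero _).2 fun a ha => ?_
    obtain ⟨Q, rfl⟩ := AdjoinRoot.mk_surjective a
    replace ha : Polynomial.aeval e Q = 0 := ha
    exact AdjoinRoot.mk_eq_zero.2 (minpoly.isIntegrallyClosed_dvd he ha)
  letI : Algebra (AdjoinRoot P) E := φ.toRingHom.toAlgebra
  haveI : IsScalarTower D (AdjoinRoot P) E := IsScalarTower.of_algebraMap_eq fun d => (φ.commutes d).symm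
  haveI : Algebra.IsIntegral (AdjoinRoot P) E := Algebra.IsIntegral.tower_top (R := D)
  have hsurj : Function.Surjective (PrimeSpectrum.comap (algebraMap (AdjoinRoot P) E)) := fun q => by
    obtain ⟨Q, hQp, hQ⟩ := Ideal.exists_ideal_over_prime_of_isIntegral_of_isDomain (S := E) q.asIdeal
      (by rw [show RingHom.ker (algebraMap (AdjoinRoot P) E) = ⊥ from
        (RingHom.injective_iff_ker_eq_bot _).1 hφ]; exact bot_le)
    exact ⟨⟨Q, hQp⟩, PrimeSpectrum.ext hQ⟩
  have hb : (basicOpen e : Set (PrimeSpectrum E)) =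
      PrimeSpectrum.comap (algebraMap (AdjoinRoot P) E) ⁻¹' (basicOpen (AdjoinRoot.root P) : Set _) := by
    ext q
    show e ∉ q.asIdeal ↔ φ (AdjoinRoot.root P) ∉ q.asIdeal
    rw [show φ (AdjoinRoot.root P) = e from AdjoinRoot.lift_root (minpoly.aeval D e)]
  have hc : PrimeSpectrum.comap (algebraMap D E) =
      PrimeSpectrum.comap (algebraMap D (AdjoinRoot P)) ∘ PrimeSpectrum.comap (algebraMap (AdjoinRoot P) E) := by
    rw [IsScalarTower.algebraMap_eq D (AdjoinRoot P) E]
    rfl
  show IsOpen (PrimeSpectrum.comap (algebraMap D E) '' (basicOpen e : Set (PrimeSpectrum E)))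
  rw [hb, hc, Set.image_comp, Set.image_preimage_eq _ hsurj]
  exact PrimeSpectrum.isOpenMap_comap_of_hasGoingDown_of_finitePresentation _ (basicOpen _).isOpen

theorem isUnit_or_of_isUnibranch {A : Type u} [CommRing A] [(nilradical A).IsPrime] (P : Ideal A) [P.IsPrime]
    (h : CAlg2.IsUnibranch (Localization.AtPrime P)) {K : Type u} [Field K] [Algebra A K]
    [Algebra (A ⧸ nilradical A) K] [IsScalarTower A (A ⧸ nilradical A) K] [IsFractionRing (A ⧸ nilradical A) K]
    (a b : K) (ha : IsIntegral A a) (hb : IsIntegral A b) {s : A} (hs : s ∉ P) (hab : a + b = algebraMap A K s) :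
    ∃ t : A, t ∉ P ∧ ((a ≠ 0 ∧ IsIntegral A (t • a⁻¹)) ∨ (b ≠ 0 ∧ IsIntegral A (t • b⁻¹))) := by
  let O := Localization.AtPrime P
  obtain ⟨hdom, hloc⟩ := h
  haveI := hdom
  let K' := FractionRing (CAlg2.red O)
  let φ : A →+* CAlg2.red O := (Ideal.Quotient.mk (nilradical O)).comp (algebraMap A O)
  have hker : ∀ a ∈ nilradical A, φ a = 0 := fun a ha => (IsNilpotent.map ha φ).eq_zero
  let φ₁ : A ⧸ nilradical A →+* K' := Ideal.Quotient.lift _ ((algebraMap (CAlg2.red O) K').comp φ)
    fun a ha => by rw [RingHom.comp_apply, hker a ha, map_zero]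
  have hφ₁ : Function.Injective φ₁ := by
    refine RingHom.lift_injective_of_ker_le_ideal _ _ fun a ha => ?_
    rw [RingHom.mem_ker, RingHom.comp_apply, map_eq_zero_iff _ (IsFractionRing.injective (CAlg2.red O) K'),
      RingHom.comp_apply, Ideal.Quotient.eq_zero_iff_mem] at ha
    obtain ⟨n, hn⟩ := ha
    replace hn : algebraMap A O (a ^ n) = 0 := (map_pow _ _ _).trans hn
    rw [IsLocalization.map_eq_zero_iff P.primeCompl] at hn
    obtain ⟨⟨t, ht⟩, htn⟩ := hn
    rcases Ideal.IsPrime.mem_or_mem ‹(nilradical A).IsPrime› (show t * a ^ n ∈ nilradical A from htn ▸ zero_mem _)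
      with h1 | h1
    · exact absurd (nilradical_le_prime P h1) ht
    · exact Ideal.IsPrime.mem_of_pow_mem ‹_› n h1
  let ψ : K →+* K' := IsFractionRing.lift hφ₁
  have hψ : ∀ a : A, ψ (algebraMap A K a) = algebraMap (CAlg2.red O) K' (φ a) := fun a => by
    rw [IsScalarTower.algebraMap_apply A (A ⧸ nilradical A) K, IsFractionRing.lift_algebraMap]
    rfl
  let ψA : K →ₐ[A] K' := { ψ with commutes' := hψ }
  have hint : ∀ {x : K}, IsIntegral A x → IsIntegral (CAlg2.red O) (ψ x) := fun {x} hx => by
    obtain ⟨Q, hQ, he⟩ := hx.map ψA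
    refine ⟨Q.map φ, hQ.map _, ?_⟩
    rw [Polynomial.eval₂_map]
    exact he
  have back : ∀ x : K, IsIntegral (CAlg2.red O) (ψ x) → ∃ t : A, t ∉ P ∧ IsIntegral A (t • x) := fun x hx => by
    obtain ⟨Q, hQ, he⟩ := hx
    obtain ⟨Q', hQ', -, hQm⟩ := Polynomial.lifts_and_natDegree_eq_and_monic
      (Polynomial.map_surjective _ Ideal.Quotient.mk_surjective Q : Q ∈ Polynomial.lifts (Ideal.Quotient.mk (nilradical O))) hQ
    obtain ⟨⟨t, ht⟩, hti⟩ := IsIntegral.exists_multiple_integral_of_isLocalization P.primeCompl (Rₘ := O) (ψ x)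
      ⟨Q', hQm, by rw [show algebraMap O K' = (algebraMap (CAlg2.red O) K').comp (Ideal.Quotient.mk (nilradical O)) from rfl,
        ← Polynomial.eval₂_map, hQ', he]⟩
    refine ⟨t, ht, (isIntegral_algHom_iff ψA ψA.injective).1 ?_⟩
    rw [map_smul]
    exact hti
  let a' : CAlg2.normRed O := ⟨ψ a, hint ha⟩
  let b' : CAlg2.normRed O := ⟨ψ b, hint hb⟩
  have hsum : IsUnit (a' + b') := by
    have h1 : a' + b' = algebraMap (CAlg2.red O) (CAlg2.normRed O) (φ s) := by
      refine Subtype.ext ?_
      show ψ a + ψ b = algebraMap (CAlg2.red O) K' (φ s)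
      rw [← map_add, hab, hψ]
    rw [h1]
    exact (((IsLocalization.map_units O (⟨s, hs⟩ : P.primeCompl)).map (Ideal.Quotient.mk (nilradical O))).map (algebraMap (CAlg2.red O) (CAlg2.normRed O)))
  have key : ∀ (x : K) (x' : CAlg2.normRed O), x'.1 = ψ x → IsUnit x' →
      ∃ t : A, t ∉ P ∧ (x ≠ 0 ∧ IsIntegral A (t • x⁻¹)) := fun x x' hx hu => by
    obtain ⟨y, hy⟩ := isUnit_iff_exists_inv.1 hu
    have h1 : ψ x * y.1 = 1 := by rw [← hx]; exact congrArg Subtype.val hy
    have hx0 : x ≠ 0 := fun h0 => by simp [h0] at h1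
    obtain ⟨t, ht, hti⟩ := back x⁻¹ (by rw [map_inv₀, ← eq_inv_of_mul_eq_one_right h1]; exact y.2)
    exact ⟨t, ht, hx0, hti⟩
  haveI := hloc
  rcases IsLocalRing.isUnit_or_isUnit_of_isUnit_add hsum with hu | hu
  · obtain ⟨t, ht, h'⟩ := key a a' rfl hu
    exact ⟨t, ht, Or.inl h'⟩
  · obtain ⟨t, ht, h'⟩ := key b b' rfl hu
    exact ⟨t, ht, Or.inr h'⟩

set_option maxHeartbeats 800000 in
/-- An integral dominant map to a scheme with unibranch local rings is open. -/
theorem isOpenMap_comap_of_unibranch {A B : Type u} [CommRing A] [CommRing B] [IsDomain B] [Algebra A B]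
    [Algebra.IsIntegral A B] (hker : RingHom.ker (algebraMap A B) = nilradical A)
    (hub : ∀ P : PrimeSpectrum A, CAlg2.IsUnibranch (Localization.AtPrime P.asIdeal)) :
    IsOpenMap (PrimeSpectrum.comap (algebraMap A B)) := by
  haveI : (nilradical A).IsPrime := hker ▸ RingHom.ker_isPrime _
  let L := FractionRing B
  let K := FractionRing (A ⧸ nilradical A)
  let φ : A ⧸ nilradical A →+* L := Ideal.Quotient.lift _ ((algebraMap B L).comp (algebraMap A B))
    fun a ha => by
      have h1 : a ∈ RingHom.ker (algebraMap A B) := by rw [hker]; exact ha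
      rw [RingHom.comp_apply, RingHom.mem_ker.1 h1, map_zero]
  have hφ : Function.Injective φ := by
    refine RingHom.lift_injective_of_ker_le_ideal _ _ ?_
    rw [RingHom.ker_comp_of_injective _ (IsFractionRing.injective B L), hker]
  let ι : K →+* L := IsFractionRing.lift hφ
  let ιA : K →ₐ[A] L :=
    { ι with
      commutes' := fun a => by
        show ι (algebraMap A K a) = algebraMap A L a
        rw [IsScalarTower.algebraMap_apply A (A ⧸ nilradical A) K, IsFractionRing.lift_algebraMap,
          IsScalarTower.algebraMap_apply A B L]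
        rfl }
  let D := integralClosure A K
  let E := integralClosure A L
  let δ : D →ₐ[A] E := (ιA.comp D.val).codRestrict E fun d => d.2.map ιA
  letI : Algebra D E := δ.toRingHom.toAlgebra
  haveI : IsScalarTower A D E := IsScalarTower.of_algebraMap_eq fun a => (δ.commutes a).symm
  let β : B →ₐ[A] E := (IsScalarTower.toAlgHom A B L).codRestrict E fun b =>
    (Algebra.IsIntegral.isIntegral (R := A) b).map _
  letI : Algebra B E := β.toRingHom.toAlgebra
  haveI : IsScalarTower A B E := IsScalarTower.of_algebraMap_eq fun a => (β.commutes a).symm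
  haveI : Algebra.IsIntegral A E := IsIntegralClosure.isIntegral_algebra A L
  haveI : Algebra.IsIntegral A D := IsIntegralClosure.isIntegral_algebra A K
  haveI : Algebra.IsIntegral D E := Algebra.IsIntegral.tower_top (R := A)
  haveI : Algebra.IsIntegral B E := Algebra.IsIntegral.tower_top (R := A)
  haveI : IsIntegrallyClosedIn D K := inferInstanceAs (IsIntegrallyClosedIn (integralClosure A K) K)
  haveI : IsFractionRing D K := by
    refine IsFractionRing.of_field D K fun x => ?_
    obtain ⟨a, s, hs, rfl⟩ := IsFractionRing.div_surjective (A ⧸ nilradical A) x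
    obtain ⟨a, rfl⟩ := Ideal.Quotient.mk_surjective a
    obtain ⟨s, rfl⟩ := Ideal.Quotient.mk_surjective s
    exact ⟨algebraMap A D a, algebraMap A D s, rfl⟩
  haveI : IsIntegrallyClosed D := IsIntegrallyClosed.of_isIntegrallyClosedIn D K
  have hDE := isOpenMap_comap_of_isIntegrallyClosed (D := D) (E := E)
    (fun a b h => Subtype.ext (ι.injective (congrArg Subtype.val h)))
  have hBE : Function.Surjective (PrimeSpectrum.comap (algebraMap B E)) := fun q => by
    obtain ⟨Q, hQp, hQ⟩ := Ideal.exists_ideal_over_prime_of_isIntegral_of_isDomain (S := E) q.asIdeal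
      (by rw [(RingHom.injective_iff_ker_eq_bot _).1
        (fun a b h => IsFractionRing.injective B L (congrArg Subtype.val h) :
          Function.Injective (algebraMap B E))]; exact bot_le)
    exact ⟨⟨Q, hQp⟩, PrimeSpectrum.ext hQ⟩
  have hinj : Function.Injective (PrimeSpectrum.comap (algebraMap A D)) := by
    intro q₁ q₂ e
    set P := PrimeSpectrum.comap (algebraMap A D) q₁ with hP
    have hq : ∀ q : PrimeSpectrum D, PrimeSpectrum.comap (algebraMap A D) q = P →
        ∀ (x : D) (t : A), x ∈ q.asIdeal → t ∉ P.asIdeal → x.1 ≠ 0 → ¬ IsIntegral A (t • x.1⁻¹) := by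
      intro q hqP x t hx ht hx0 hi
      refine ht ?_
      rw [← hqP, PrimeSpectrum.comap_asIdeal, Ideal.mem_comap]
      have : algebraMap A D t = x * ⟨t • x.1⁻¹, hi⟩ := by
        refine Subtype.ext ?_
        show algebraMap A K t = x.1 * (t • x.1⁻¹)
        rw [Algebra.smul_def, mul_comm (algebraMap A K t), ← mul_assoc, mul_inv_cancel₀ hx0, one_mul]
      rw [this]
      exact Ideal.mul_mem_right _ _ hx
    by_contra hne
    by_cases hdisj : ∃ s, s ∉ P.asIdeal ∧ algebraMap A D s ∈ q₁.asIdeal ⊔ q₂.asIdeal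
    · obtain ⟨s, hs, hmem⟩ := hdisj
      obtain ⟨a, ha, b, hb, hab⟩ := Submodule.mem_sup.1 hmem
      obtain ⟨t, ht, ⟨h0, hi⟩ | ⟨h0, hi⟩⟩ := isUnit_or_of_isUnibranch P.asIdeal (hub P) (K := K) a.1 b.1 a.2 b.2 hs
        (congrArg Subtype.val hab)
      · exact hq q₁ rfl a t ha ht h0 hi
      · exact hq q₂ e.symm b t hb ht h0 hi
    · push Not at hdisj
      have hdisjoint : Disjoint ((q₁.asIdeal ⊔ q₂.asIdeal : Ideal D) : Set D)
          ((P.asIdeal.primeCompl.map (algebraMap A D) : Submonoid D) : Set D) := by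
        rw [Set.disjoint_right]
        rintro _ ⟨s, hs, rfl⟩
        exact hdisj s hs
      obtain ⟨Q, hQp, hQle, hQd⟩ := Ideal.exists_le_prime_disjoint _ _ hdisjoint
      have hQ : Q.comap (algebraMap A D) ≤ P.asIdeal := fun t ht => by
        by_contra htP
        exact Set.disjoint_left.1 hQd ht ⟨t, htP, rfl⟩
      have hge : ∀ q : PrimeSpectrum D, PrimeSpectrum.comap (algebraMap A D) q = P → q.asIdeal ≤ Q → q.asIdeal = Q := by
        intro q hqP hle
        haveI := q.2
        rcases hle.eq_or_lt with h | h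
        · exact h
        · obtain ⟨t, ht, htq⟩ := Set.exists_of_ssubset (Ideal.IsIntegral.comap_lt_comap h :
            q.asIdeal.comap (algebraMap A D) < Q.comap (algebraMap A D))
          rw [← hqP] at hQ
          exact absurd (hQ ht) htq
      exact hne (PrimeSpectrum.ext ((hge q₁ rfl (le_sup_left.trans hQle)).trans
        (hge q₂ e.symm (le_sup_right.trans hQle)).symm))
  have hDA : IsOpenMap (PrimeSpectrum.comap (algebraMap A D)) := by
    have hsurj : Function.Surjective (PrimeSpectrum.comap (algebraMap A D)) := fun q => by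
      obtain ⟨Q, hQp, hQ⟩ := Ideal.exists_ideal_over_prime_of_isIntegral_of_isDomain (S := D) q.asIdeal (by
        intro a ha
        have h1 : algebraMap A K a = 0 := congrArg Subtype.val (RingHom.mem_ker.1 ha)
        rw [IsScalarTower.algebraMap_apply A (A ⧸ nilradical A) K, map_eq_zero_iff _ (IsFractionRing.injective _ K)] at h1
        exact nilradical_le_prime _ (Ideal.Quotient.eq_zero_iff_mem.1 h1))
      exact ⟨⟨Q, hQp⟩, PrimeSpectrum.ext hQ⟩
    intro U hU
    rw [← compl_compl U, Set.image_compl_eq ⟨hinj, hsurj⟩]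
    exact ((PrimeSpectrum.isClosedMap_comap_of_isIntegral (algebraMap A D) Algebra.IsIntegral.isIntegral) _
      hU.isClosed_compl).isOpen_compl
  intro U hU
  have : PrimeSpectrum.comap (algebraMap A B) '' U =
      PrimeSpectrum.comap (algebraMap A D) ''
        (PrimeSpectrum.comap (algebraMap D E) '' (PrimeSpectrum.comap (algebraMap B E) ⁻¹' U)) := by
    conv_lhs => rw [← Set.image_preimage_eq U hBE]
    rw [← Set.image_comp, ← Set.image_comp]
    refine Set.image_congr fun q _ => ?_
    apply PrimeSpectrum.ext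
    simp only [Function.comp_apply, PrimeSpectrum.comap_asIdeal, Ideal.comap_comap, ← IsScalarTower.algebraMap_eq]
  rw [this]
  exact hDA _ (hDE _ (hU.preimage (PrimeSpectrum.continuous_comap _)))

set_option maxHeartbeats 400000 in
/-- Openness at a quasi-finite point, affine form. -/
theorem exists_open_image_of_quasiFiniteAt {A B : Type u} [CommRing A] [CommRing B] [IsDomain B] [Algebra A B]
    [Algebra.FiniteType A B] (q : PrimeSpectrum B) [Algebra.QuasiFiniteAt A q.asIdeal]
    (hker : RingHom.ker (algebraMap A B) = nilradical A)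
    (hub : ∀ P : PrimeSpectrum A, CAlg2.IsUnibranch (Localization.AtPrime P.asIdeal))
    {N : Set (PrimeSpectrum B)} (hN : IsOpen N) (hq : q ∈ N) :
    PrimeSpectrum.comap (algebraMap A B) '' N ∈ nhds (PrimeSpectrum.comap (algebraMap A B) q) := by
  obtain ⟨S', hfg, r, hr, hbij⟩ :=
    Algebra.QuasiFiniteAt.exists_fg_and_exists_notMem_and_awayMap_bijective (R := A) q.asIdeal
  haveI : Module.Finite A S' := Module.Finite.iff_fg.2 hfg
  have hopen := isOpenMap_comap_of_unibranch (A := A) (B := S') (by
    refine le_antisymm (fun a ha => hker ▸ RingHom.mem_ker.2 (congrArg Subtype.val (RingHom.mem_ker.1 ha))) ?_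
    intro a ha
    exact RingHom.mem_ker.2 (Subtype.ext (RingHom.mem_ker.1 (hker.symm ▸ ha : a ∈ RingHom.ker (algebraMap A B))))) hub
  -- the two open pieces are homeomorphic
  let c : PrimeSpectrum B → PrimeSpectrum S' := PrimeSpectrum.comap S'.val.toRingHom
  let jB := PrimeSpectrum.comap (algebraMap B (Localization.Away (S'.val.toRingHom r)))
  let jS := PrimeSpectrum.comap (algebraMap S' (Localization.Away r))
  let e := PrimeSpectrum.comap (Localization.awayMap S'.val.toRingHom r)
  have hhom : IsHomeomorph e := PrimeSpectrum.isHomeomorph_comap_of_bijective hbij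
  have hje : c ∘ jB = jS ∘ e := by
    funext z
    apply PrimeSpectrum.ext
    simp only [c, jB, jS, e, Function.comp_apply, PrimeSpectrum.comap_asIdeal, Ideal.comap_comap]
    rw [Localization.awayMap, IsLocalization.Away.map, IsLocalization.map_comp]
  have hjS : IsOpenMap jS := (PrimeSpectrum.localization_away_isOpenEmbedding (Localization.Away r) r).isOpenMap
  have hV : IsOpen (c '' (jB '' (jB ⁻¹' N))) := by
    rw [← Set.image_comp, hje, Set.image_comp]
    exact hjS _ (hhom.isOpenMap _ (hN.preimage (PrimeSpectrum.continuous_comap _)))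
  obtain ⟨z, hz⟩ : q ∈ Set.range jB := by
    rw [PrimeSpectrum.localization_away_comap_range (Localization.Away (S'.val.toRingHom r)) (S'.val.toRingHom r)]
    exact hr
  have hcomp : ∀ p, PrimeSpectrum.comap (algebraMap A B) p = PrimeSpectrum.comap (algebraMap A S') (c p) :=
    fun p => rfl
  refine Filter.mem_of_superset ((hopen _ hV).mem_nhds
    ⟨c q, ⟨q, ⟨z, show jB z ∈ N from hz.symm ▸ hq, hz⟩, rfl⟩, (hcomp q).symm⟩) ?_
  rintro _ ⟨_, ⟨_, ⟨w, hw, rfl⟩, rfl⟩, rfl⟩
  exact ⟨_, hw, hcomp _⟩

end Groth.Agent.FamT
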